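import Mathlib.AlgebraicGeometry.ZariskisMainTheorem
import Mathlib.AlgebraicGeometry.Morphisms.IsIso

/-!
Zariski's main theorem for morphisms with `O_Y = f_* O_X`.
-/

set_option autoImplicit false
universe u

open CategoryTheory AlgebraicGeometry

namespace GrothLib.ZMT9

variable {X Y : Scheme.{u}} (f : X ⟶ Y)

theorem isIso_fromNormalization [QuasiCompact f] [QuasiSeparated f]
    (hO : ∀ U : Y.Opens, Function.Bijective (f.app U)) : IsIso f.fromNormalization := by
  refine HasAffineProperty.of_iSup_eq_top (P := MorphismProperty.isomorphisms Scheme)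
    (fun U : Y.affineOpens => U) (iSup_affineOpens_eq_top Y) (fun U => ⟨U.2.preimage f.fromNormalization, ?_⟩)
  rw [Scheme.Hom.appTop, morphismRestrict_app]
  refine IsIso.comp_isIso' ?_ ?_
  · suffices h : ∀ W : Y.Opens, W = U.1 → IsIso (f.fromNormalization.app W) from
      h _ (Scheme.Opens.ι_image_top U.1)
    rintro W rfl
    rw [f.fromNormalization_app U.2]
    refine IsIso.comp_isIso' ((ConcreteCategory.isIso_iff_bijective _).2 ?_) inferInstance
    letI := (f.app U.1).hom.toAlgebra
    refine ⟨fun a b h => (hO U.1).1 (congrArg Subtype.val h), fun z => ?_⟩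
    obtain ⟨a, ha⟩ := (hO U.1).2 z.1
    exact ⟨a, Subtype.ext ha⟩
  · rw [eqToHom_op, eqToHom_map]
    exact ⟨eqToHom (by rw [Scheme.Opens.toScheme_presheaf_obj] <;> simp), (eqToHom_trans _ _).trans (eqToHom_refl _ rfl), (eqToHom_trans _ _).trans (eqToHom_refl _ rfl)⟩

theorem exists_open [IsSeparated f] [LocallyOfFiniteType f] [QuasiCompact f]
    (hO : ∀ U : Y.Opens, Function.Bijective (f.app U)) :
    ∃ V : Y.Opens, IsIso (f ∣_ V) ∧ (f ⁻¹ᵁ V : Set X) = {x | f.QuasiFiniteAt x} ∧
      ∀ y : Y, y ∉ (V : Set Y) → ∀ x : ↥(f.fiber y), ¬ IsOpen ({x} : Set ↥(f.fiber y)) := by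
  haveI := isIso_fromNormalization f hO
  obtain ⟨U, hU, hset⟩ := f.exists_isIso_morphismRestrict_toNormalization
  let V := f.fromNormalization ''ᵁ U
  have hVU : f.fromNormalization ⁻¹ᵁ V = U := f.fromNormalization.preimage_image_eq U
  have hfV : f ⁻¹ᵁ V = f.toNormalization ⁻¹ᵁ U := by
    conv_lhs => rw [← f.toNormalization_fromNormalization]
    rw [Scheme.Hom.comp_preimage, hVU]
  have hpre : (f ⁻¹ᵁ V : Set X) = {x | f.QuasiFiniteAt x} := (congrArg SetLike.coe hfV).trans hset
  have hiso : IsIso (f ∣_ V) := by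
    suffices IsIso ((f.toNormalization ≫ f.fromNormalization) ∣_ V) by
      have h2 := (MorphismProperty.isomorphisms Scheme).arrow_mk_iso_iff
        (eqToIso (congrArg (fun g => Arrow.mk (g ∣_ V)) f.toNormalization_fromNormalization))
      exact h2.1 this
    haveI : IsIso (f.toNormalization ∣_ (f.fromNormalization ⁻¹ᵁ V)) := by rw [hVU]; exact hU
    rw [morphismRestrict_comp]
    haveI : IsIso (f.fromNormalization ∣_ V) :=
      MorphismProperty.of_isPullback (P := MorphismProperty.isomorphisms Scheme)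
        (isPullback_morphismRestrict f.fromNormalization V).flip ‹IsIso f.fromNormalization›
    refine IsIso.comp_isIso' ?_ inferInstance
    exact ‹IsIso (f.toNormalization ∣_ (f.fromNormalization ⁻¹ᵁ V))›
  refine ⟨V, hiso, hpre, fun y hy x hx => hy ?_⟩
  obtain ⟨p, hp⟩ : ∃ p, f.fiberι y x = p := ⟨_, rfl⟩
  obtain rfl : f p = y := by
    rw [← hp]
    exact ((f.fiberHomeo y) x).2
  have hx' : x = f.asFiber p := (f.fiberι (f p)).isEmbedding.injective (by rw [hp, f.fiberι_asFiber])
  subst hx'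
  have hq : f.QuasiFiniteAt p := Scheme.Hom.quasiFiniteAt_iff_isOpen_singleton_asFiber.2 hx
  exact (hpre.ge hq : p ∈ (f ⁻¹ᵁ V : Set X))

end GrothLib.ZMT9
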